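import Cfsg.Agent.Lib.Supersolvable.Schmidt
import Cfsg.Agent.Lib.PGroup.Frattini

/-!
The normal Sylow subgroup `P` of a minimal non-nilpotent group, described intrinsically by an
automorphism of prime order, prime to `|P|`, fixing every invariant proper subgroup pointwise.
-/

set_option autoImplicit false

namespace Cfsg.Agent.Lib.MinNNSylow

open Subgroup
open scoped commutatorElement

/-- `P` has an automorphism `α` of prime order `q`, prime to `|P|`, fixing every proper
`α`-invariant subgroup pointwise. -/
def HasSchmidtAut (P : Type*) [Group P] : Prop :=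
  ∃ (q : ℕ) (α : MulAut P), q.Prime ∧ q.Coprime (Nat.card P) ∧ α ^ q = 1 ∧ α ≠ 1 ∧
    ∀ M : Subgroup P, M ≠ ⊤ → (∀ x ∈ M, α x ∈ M) → ∀ x ∈ M, α x = x

theorem HasSchmidtAut.of_equiv {P P' : Type*} [Group P] [Group P'] (h : HasSchmidtAut P)
    (e : P ≃* P') : HasSchmidtAut P' := by
  obtain ⟨q, α, hq, hc, hαq, hα1, hfix⟩ := h
  refine ⟨q, MulAut.congr e α, hq, Nat.card_congr e.toEquiv ▸ hc,
    by rw [← map_pow, hαq, map_one], fun h' => hα1 ((MulAut.congr e).injective ?_), ?_⟩
  · rw [h', map_one]
  · intro M hM hinv x hx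
    have hM' : M.comap e.toMonoidHom ≠ ⊤ := fun h' => hM (by
      rw [← map_comap_eq_self_of_surjective (f := e.toMonoidHom) e.surjective M, h',
        map_top_of_surjective _ e.surjective])
    have h' := hfix (M.comap e.toMonoidHom) hM' (fun y hy => by
      simpa [mem_comap] using hinv (e y) hy) (e.symm x) (by simpa [mem_comap] using hx)
    show e (α (e.symm x)) = x
    rw [h', e.apply_symm_apply]

theorem hasSchmidtAut_of_minimalNonNilpotent {X : Type*} [Group X] [Finite X] {p : ℕ}
    [Fact p.Prime] (hX : Cfsg.IsMinimalNonNilpotent X) (P : Sylow p X)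
    (hPn : (P : Subgroup X).Normal) (hP1 : (P : Subgroup X) ≠ ⊥) :
    HasSchmidtAut (P : Subgroup X) := by
  classical
  obtain ⟨r, q, hr, hq, hrq, R, Q, hRc, hQn, hRQ, hRn⟩ :=
    Supersolvable.exists_schmidt_structure hX.1 hX.2
  haveI := Fact.mk hr
  haveI := Fact.mk hq
  haveI := hPn
  haveI := hQn
  -- `p` is the prime of the normal Sylow subgroup
  have hpr : p ≠ r := by
    rintro rfl
    haveI := Sylow.unique_of_normal P hPn
    exact hRn (Subsingleton.elim P R ▸ hPn)
  have hpq : p = q := by
    by_contra hne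
    have hpdvd : p ∣ Nat.card X :=
      (P.isPGroup'.card_eq_or_dvd.resolve_left fun e => hP1 (eq_bot_of_card_eq _ e)).trans
        (card_subgroup_dvd_card _)
    have hcard : Nat.card X = Nat.card (Q : Subgroup X) * (Q : Subgroup X).relIndex
        ((R : Subgroup X) ⊔ Q) := by
      rw [hRQ, relIndex_top_right, card_mul_index]
    rw [hcard, sup_comm, relIndex_sup_left] at hpdvd
    rcases (Nat.Prime.dvd_mul Fact.out).mp hpdvd with h | h
    · obtain ⟨k, hk⟩ := IsPGroup.iff_card.mp Q.isPGroup'
      exact hne ((Nat.prime_dvd_prime_iff_eq Fact.out hq).mp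
        ((Fact.out : p.Prime).dvd_of_dvd_pow (hk ▸ h)))
    · obtain ⟨k, hk⟩ := IsPGroup.iff_card.mp R.isPGroup'
      exact hpr ((Nat.prime_dvd_prime_iff_eq Fact.out hr).mp
        ((Fact.out : p.Prime).dvd_of_dvd_pow (hk ▸ h.trans (relIndex_dvd_card _ _))))
  subst hpq
  haveI := Sylow.unique_of_normal P hPn
  obtain rfl : Q = P := Subsingleton.elim _ _
  haveI := hRc
  obtain ⟨⟨y, hy⟩, hgen⟩ := IsCyclic.exists_generator (α := (R : Subgroup X))
  have hR : (R : Subgroup X) = zpowers y := by
    refine le_antisymm (fun z hz => ?_) (zpowers_le.mpr hy)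
    obtain ⟨i, hi⟩ := mem_zpowers_iff.mp (hgen ⟨z, hz⟩)
    exact mem_zpowers_iff.mpr ⟨i, congrArg Subtype.val hi⟩
  have hdisj : Disjoint (Q : Subgroup X) (R : Subgroup X) :=
    IsPGroup.disjoint_of_ne p r hpr _ _ Q.isPGroup' R.isPGroup'
  -- a proper `y`-invariant subgroup of `Q` is centralised by `y`
  have key : ∀ M ≤ (Q : Subgroup X), M ≠ Q → y ∈ normalizer (M : Set X) →
      ∀ m ∈ M, y * m * y⁻¹ = m := by
    intro M hMQ hne hyM m hm
    have hn : (R : Subgroup X) ≤ normalizer (M : Set X) := hR ▸ zpowers_le.mpr hyM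
    have hproper : M ⊔ (R : Subgroup X) ≠ ⊤ := by
      intro e
      refine hne (le_antisymm hMQ fun x hx => ?_)
      have hx' : x ∈ ((M ⊔ (R : Subgroup X) : Subgroup X) : Set X) := by rw [e]; trivial
      rw [coe_mul_of_right_le_normalizer_left M _ hn] at hx'
      obtain ⟨a, ha, b, hb, rfl⟩ := hx'
      have hb' : b = 1 :=
        disjoint_def.mp hdisj ((mul_mem_cancel_left (hMQ ha)).mp hx) hb
      simpa [hb'] using ha
    exact mul_inv_eq_iff_eq_mul.mpr (Supersolvable.commute_of_nilpotent (hX.2 _ hproper) hpr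
      (Q.isPGroup'.to_le hMQ) R.isPGroup' le_sup_left le_sup_right hm hy).eq.symm
  -- `y ^ r` centralises `Q`
  have hyr : ∀ u ∈ (Q : Subgroup X), y ^ r * u * (y ^ r)⁻¹ = u := by
    intro u hu
    have hproper : (Q : Subgroup X) ⊔ zpowers (y ^ r) ≠ ⊤ := by
      intro e
      obtain ⟨a, ha, b, hb, hab⟩ :=
        mem_sup_of_normal_left.mp (e ▸ mem_top y : y ∈ (Q : Subgroup X) ⊔ zpowers (y ^ r))
      have hb' : b ∈ (R : Subgroup X) := zpowers_le.mpr (pow_mem hy r) hb
      have ha' : a = 1 := disjoint_def.mp hdisj ha ((mul_mem_cancel_right hb').mp (hab ▸ hy))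
      rw [ha', one_mul] at hab
      obtain ⟨n, hn⟩ := mem_zpowers_iff.mp (hab ▸ hb)
      obtain ⟨k, hk⟩ := IsPGroup.iff_orderOf.mp R.isPGroup' ⟨y, hy⟩
      rw [Subgroup.orderOf_mk] at hk
      have h1 : y ^ ((r : ℤ) * n - 1) = 1 := by
        rw [zpow_sub_one, zpow_mul, zpow_natCast, hn, mul_inv_cancel]
      rw [← orderOf_dvd_iff_zpow_eq_one, hk] at h1
      rcases Nat.eq_zero_or_pos k with rfl | hk0
      · apply hRn
        have hy1 : y = 1 := orderOf_eq_one_iff.mp (by simpa using hk)
        rw [hR, hy1, zpowers_one_eq_bot]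
        infer_instance
      · have h2 : (r : ℤ) ∣ 1 := by
          have h3 := (Int.natCast_dvd_natCast.mpr (dvd_pow_self r hk0.ne')).trans h1
          simpa using dvd_sub (dvd_mul_right (r : ℤ) n) h3
        exact hr.one_lt.ne' (by exact_mod_cast Int.eq_one_of_dvd_one (Int.natCast_nonneg r) h2)
    exact mul_inv_eq_iff_eq_mul.mpr (Supersolvable.commute_of_nilpotent (hX.2 _ hproper) hpr
      Q.isPGroup' (R.isPGroup'.to_le (zpowers_le.mpr (pow_mem hy r))) le_sup_left le_sup_right hu
      (mem_zpowers _)).eq.symm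
  have hyn : y ∈ normalizer ((Q : Subgroup X) : Set X) := by
    rw [normalizer_eq_top]; trivial
  refine ⟨r, MulAut.conjNormal y, hr, ?_, ?_, ?_, ?_⟩
  · obtain ⟨k, hk⟩ := IsPGroup.iff_card.mp Q.isPGroup'
    rw [hk]
    exact ((Nat.coprime_primes hr Fact.out).mpr hpr.symm).pow_right k
  · refine MulEquiv.ext fun u => Subtype.ext ?_
    rw [← map_pow, MulAut.conjNormal_apply, hyr u u.2]
    rfl
  · intro h
    apply hRn
    rw [hR, ← normalizer_eq_top_iff, eq_top_iff, ← hRQ, hR]
    refine sup_le le_normalizer (le_trans ?_ (centralizer_le_normalizer _))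
    intro u hu
    rw [mem_centralizer_iff]
    intro z hz
    have h1 : Commute y u := mul_inv_eq_iff_eq_mul.mp
      (by simpa using congrArg Subtype.val (DFunLike.congr_fun h ⟨u, hu⟩))
    obtain ⟨i, rfl⟩ := mem_zpowers_iff.mp hz
    exact (h1.zpow_left i).eq
  · intro M hM hinv x hx
    refine Subtype.ext ?_
    rw [MulAut.conjNormal_apply]
    refine key (M.map (Q : Subgroup X).subtype) (map_subtype_le M) ?_ ?_ _
      (mem_map_of_mem _ hx)
    · intro e
      exact hM (top_le_iff.mp fun u _ => by
        obtain ⟨v, hv, hvu⟩ := (show (u : X) ∈ M.map (Q : Subgroup X).subtype by rw [e]; exact u.2)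
        exact Subtype.ext hvu ▸ hv)
    · refine mem_normalizer_fintype ?_
      rintro _ ⟨v, hv, rfl⟩
      exact ⟨_, hinv v hv, MulAut.conjNormal_apply y v⟩

variable {P : Type*} [Group P] [Finite P] {p : ℕ} [Fact p.Prime]

/-- The properties of a nonabelian `p`-group with a Schmidt automorphism. -/
theorem schmidt_properties (hP : IsPGroup p P) (hna : ∃ a b : P, a * b ≠ b * a)
    (h : HasSchmidtAut P) :
    commutator P ≤ center P ∧ (∀ x : P, x ^ p ∈ center P) ∧
    (∀ w ∉ center P, ∀ z ∈ center P, ∃ u : P, ⁅w, u⁆ = z) ∧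
    (∀ z ∈ center P, z ^ p = 1) ∧
    ∀ v : P, v ∉ center P → v ^ p = 1 → Nat.card (center P) = p → Nat.card P = p ^ 3 → 5 ≤ p := by
  classical
  obtain ⟨q, α, hq, hcop, hαq, hα1, hfix⟩ := h
  obtain ⟨a₀, b₀, hab₀⟩ := hna
  have hqone : ∀ d : P, d ^ q = 1 → d = 1 := fun d hd => orderOf_eq_one_iff.mp
    (Nat.eq_one_of_dvd_coprimes hcop (orderOf_dvd_of_pow_eq_one hd) (orderOf_dvd_natCard d))
  haveI : Nontrivial P := ⟨⟨a₀, 1, fun h => hab₀ (by simp [h])⟩⟩
  haveI : Group.IsNilpotent P := hP.isNilpotent
  have hZtop : center P ≠ ⊤ := fun e =>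
    hab₀ ((mem_center_iff.mp (e ▸ mem_top a₀ : a₀ ∈ center P) b₀).symm)
  -- an invariant subgroup containing the centre and a non-central element is everything
  have hZinv : ∀ x ∈ center P, α x ∈ center P := fun x hx => by
    rw [mem_center_iff] at hx ⊢
    intro g
    obtain ⟨g', rfl⟩ := α.surjective g
    rw [← map_mul, ← map_mul, hx g']
  have hZfix : ∀ x ∈ center P, α x = x := hfix _ hZtop hZinv
  obtain ⟨M₀, hM₀⟩ : ∃ M : Subgroup P, IsCoatom M :=
    (eq_top_or_exists_le_coatom ⊥).resolve_left bot_ne_top |>.imp fun _ h => h.1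
  have hFtop : frattini P ≠ ⊤ := fun e => hM₀.1 (top_le_iff.mp (e ▸ frattini_le_coatom hM₀))
  have hFfix : ∀ x ∈ frattini P, α x = x := hfix _ hFtop fun x hx =>
    (characteristic_iff_comap_eq.mp frattini_characteristic α).ge hx
  have hcomm : ∀ u v : P, α ⁅u, v⁆ = ⁅u, v⁆ := fun u v =>
    hFfix _ (PFrattini.commutator_le_frattini hP
      (commutator_mem_commutator (mem_top u) (mem_top v)))
  -- the closure of the `u⁻¹ α u` is everything
  have hpowα : ∀ n : ℕ, ∀ x : P, α x = x → (α ^ n) x = x := fun n x hx => by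
    induction n with
    | zero => simp
    | succ n ih => rw [pow_succ, MulAut.mul_apply, hx, ih]
  have hD : closure (Set.range fun u => u⁻¹ * α u) = ⊤ := by
    by_contra hD
    have hDinv : ∀ x ∈ closure (Set.range fun u => u⁻¹ * α u),
        α x ∈ closure (Set.range fun u => u⁻¹ * α u) := by
      intro x hx
      induction hx using closure_induction with
      | mem x hx =>
        obtain ⟨u, rfl⟩ := hx
        exact subset_closure ⟨α u, by simp⟩
      | one => simp
      | mul x y _ _ hx hy => rw [map_mul]; exact mul_mem hx hy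
      | inv x _ hx => rw [map_inv]; exact inv_mem hx
    apply hα1
    refine MulEquiv.ext fun u => ?_
    have hd := hfix _ hD hDinv _ (subset_closure ⟨u, rfl⟩)
    have hn : ∀ n : ℕ, (α ^ n) u = u * (u⁻¹ * α u) ^ n := by
      intro n
      induction n with
      | zero => simp
      | succ n ih =>
        rw [pow_succ', MulAut.mul_apply, ih, map_mul, map_pow, hd, pow_succ', ← mul_assoc u,
          mul_inv_cancel_left]
    have h1 := hn q
    rw [hαq] at h1
    have h2 := hqone _ (mul_left_cancel (a := u) (by simpa using h1.symm))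
    rw [inv_mul_eq_one] at h2
    exact h2.symm
  have hC : ∀ c : P, α c = c → c ∈ center P := by
    intro c hc
    rw [mem_center_iff]
    intro g
    have hle : closure (Set.range fun u => u⁻¹ * α u) ≤ centralizer {c} := by
      refine closure_le _ |>.mpr ?_
      rintro _ ⟨u, rfl⟩
      have h1 := hcomm c u
      rw [map_commutatorElement, hc, commutatorElement_def, commutatorElement_def] at h1
      rw [SetLike.mem_coe, mem_centralizer_singleton_iff]
      have h2 : α u * c⁻¹ * (α u)⁻¹ = u * c⁻¹ * u⁻¹ := by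
        rwa [mul_assoc c, mul_assoc c, mul_assoc c, mul_assoc c, mul_right_inj] at h1
      calc u⁻¹ * α u * c = u⁻¹ * (α u * c⁻¹ * (α u)⁻¹)⁻¹ * α u := by group
        _ = c * (u⁻¹ * α u) := by rw [h2]; group
    exact mem_centralizer_singleton_iff.mp (hle (hD ▸ mem_top g))
  have hcZ : commutator P ≤ center P := fun x hx =>
    hC x (hFfix x (PFrattini.commutator_le_frattini hP hx))
  have hpZ : ∀ x : P, x ^ p ∈ center P := fun x =>
    hC _ (hFfix _ (PFrattini.pow_mem_frattini hP x))
  -- the centre is the derived subgroup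
  have hZc : center P ≤ commutator P := by
    have hαc : ∀ x ∈ commutator P, α x ∈ commutator P := fun x hx =>
      (characteristic_iff_comap_eq.mp inferInstance α).ge hx
    let δ : P →* Abelianization P :=
      { toFun := fun u => Abelianization.of (u⁻¹ * α u)
        map_one' := by simp
        map_mul' := fun u v => by
          simp only [map_mul, map_inv, mul_inv_rev]
          simp [mul_assoc, mul_comm, mul_left_comm] }
    have hsur : Function.Surjective δ := by
      rw [← MonoidHom.range_eq_top, eq_top_iff]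
      have : (⊤ : Subgroup (Abelianization P)) = (⊤ : Subgroup P).map Abelianization.of :=
        (map_top_of_surjective _ (QuotientGroup.mk_surjective)).symm
      rw [this, ← hD, MonoidHom.map_closure, closure_le]
      rintro _ ⟨_, ⟨u, rfl⟩, rfl⟩
      exact ⟨u, rfl⟩
    have hker : commutator P ≤ δ.ker := Abelianization.commutator_subset_ker δ
    let δ' : P ⧸ commutator P →* Abelianization P := QuotientGroup.lift _ δ hker
    have hsur' : Function.Surjective δ' := fun y =>
      (hsur y).elim fun x hx => ⟨(x : P ⧸ commutator P), hx⟩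
    have hinj : Function.Injective δ' :=
      (hsur'.bijective_of_nat_card_le (le_refl _)).1
    intro z hz
    refine (QuotientGroup.eq_one_iff z).mp (hinj (?_ : δ' _ = δ' 1))
    rw [map_one]
    show Abelianization.of (z⁻¹ * α z) = 1
    rw [hZfix z hz, inv_mul_cancel, map_one]
  -- the range of `u ↦ [w, u]`
  have hL1 : ∀ w ∉ center P, ∀ z ∈ center P, ∃ u : P, ⁅w, u⁆ = z := by
    intro w hw
    let θ : P →* P :=
      { toFun := fun u => ⁅w, u⁆
        map_one' := commutatorElement_one_right w
        map_mul' := fun u v => by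
          have h1 := mem_center_iff.mp (hcZ (commutator_mem_commutator (mem_top w) (mem_top v))) u
          rw [commutatorElement_mul_right_eq_mul_conj, mul_assoc _ u, h1]
          group }
    have hTZ : θ.range ≤ center P := by
      rintro _ ⟨u, rfl⟩
      exact hcZ (commutator_mem_commutator (mem_top w) (mem_top u))
    haveI : θ.range.Normal := ⟨fun n hn g => by
      rw [mem_center_iff.mp (hTZ hn) g, mul_inv_cancel_right]
      exact hn⟩
    set R := (center (P ⧸ θ.range)).comap (QuotientGroup.mk' θ.range) with hRdef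
    have hRmem : ∀ x, x ∈ R ↔ ∀ g, ⁅x, g⁆ ∈ θ.range := by
      intro x
      rw [hRdef, mem_comap, mem_center_iff]
      refine ⟨fun hx g => ?_, fun hx g => ?_⟩
      · rw [← QuotientGroup.eq_one_iff, ← QuotientGroup.mk'_apply, map_commutatorElement,
          commutatorElement_eq_one_iff_mul_comm]
        exact (hx _).symm
      · obtain ⟨g, rfl⟩ := QuotientGroup.mk'_surjective _ g
        refine (commutatorElement_eq_one_iff_mul_comm.mp ?_).symm
        rw [← map_commutatorElement]
        exact (QuotientGroup.eq_one_iff _).mpr (hx g)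
    have hRtop : R = ⊤ := by
      by_contra hne
      refine hw (hC w (hfix R hne ?_ w ((hRmem w).mpr fun g => ⟨g, rfl⟩)))
      intro x hx
      rw [hRmem] at hx ⊢
      intro g
      obtain ⟨g', rfl⟩ := α.surjective g
      rw [← map_commutatorElement, hZfix _ (hTZ (hx g'))]
      exact hx g'
    have hle : commutator P ≤ θ.range := by
      rw [_root_.commutator_def, commutator_le]
      exact fun x _ g _ => (hRmem x).mp (hRtop ▸ mem_top x) g
    intro z hz
    obtain ⟨u, hu⟩ := hle (hZc hz)
    exact ⟨u, hu⟩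
  obtain ⟨w₀, hw₀⟩ : ∃ w, w ∉ center P := by
    by_contra hc
    push Not at hc
    exact hZtop (top_le_iff.mp fun x _ => hc x)
  have hZexp : ∀ z ∈ center P, z ^ p = 1 := by
    intro z hz
    obtain ⟨u, rfl⟩ := hL1 w₀ hw₀ z hz
    have hn : ∀ n : ℕ, ⁅w₀, u ^ n⁆ = ⁅w₀, u⁆ ^ n := by
      intro n
      induction n with
      | zero => simp
      | succ n ih =>
        have h1 := mem_center_iff.mp hz (u ^ n)
        rw [pow_succ u, commutatorElement_mul_right_eq_mul_conj, ih, mul_assoc _ (u ^ n), h1, pow_succ]
        group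
    rw [← hn, commutatorElement_eq_one_iff_mul_comm]
    exact mem_center_iff.mp (hpZ u) w₀
  refine ⟨hcZ, hpZ, hL1, hZexp, ?_⟩
  intro v hv hvp hZcard hPcard
  -- `α` has no nontrivial fixed point modulo the centre
  have hfree : ∀ x : P, x⁻¹ * α x ∈ center P → x ∈ center P := by
    intro x hx
    apply hC
    by_cases htop : center P ⊔ zpowers x = ⊤
    · exfalso
      refine hab₀ ?_
      have hcom : ∀ g ∈ center P ⊔ zpowers x, g * x = x * g := by
        intro g hg
        have : center P ⊔ zpowers x ≤ centralizer {x} := sup_le (center_le_centralizer _)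
          (zpowers_le.mpr (mem_centralizer_singleton_iff.mpr rfl))
        exact mem_centralizer_singleton_iff.mp (this hg)
      have hle : center P ⊔ zpowers x ≤ centralizer (Set.univ : Set P) := by
        refine sup_le (center_le_centralizer _) (zpowers_le.mpr ?_)
        intro g _
        exact hcom g (htop ▸ mem_top g)
      exact (mem_centralizer_iff.mp (hle (htop ▸ mem_top a₀)) b₀ trivial).symm
    · refine hfix _ htop ?_ x (mem_sup_right (mem_zpowers x))
      intro g hg
      have hle : center P ⊔ zpowers x ≤ (center P ⊔ zpowers x).comap α.toMonoidHom := by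
        refine sup_le (fun z hz => mem_sup_left (hZinv z hz)) (zpowers_le.mpr ?_)
        rw [mem_comap, MulEquiv.coe_toMonoidHom]
        have : α x = x * (x⁻¹ * α x) := by group
        rw [this]
        exact mul_mem (mem_sup_right (mem_zpowers x)) (mem_sup_left hx)
      exact hle hg
  -- the permutation induced on the quotient by the centre
  have hmap : (center P).map α.toMonoidHom = center P := by
    refine eq_of_le_of_card_ge ?_ ?_
    · rintro _ ⟨z, hz, rfl⟩
      exact hZinv z hz
    · exact (card_map_of_injective (f := α.toMonoidHom) α.injective).ge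
  let σ : Equiv.Perm (P ⧸ center P) := (QuotientGroup.congr _ _ α hmap).toEquiv
  have hσ : ∀ x : P, σ (x : P ⧸ center P) = (α x : P ⧸ center P) := fun _ => rfl
  have hσn : ∀ (n : ℕ) (x : P), (σ ^ n) (x : P ⧸ center P) = ((α ^ n) x : P ⧸ center P) := by
    intro n
    induction n with
    | zero => intro x; rfl
    | succ n ih =>
      intro x
      rw [pow_succ, pow_succ, Equiv.Perm.mul_apply, MulAut.mul_apply, hσ, ih]
  have hσq : σ ^ q ^ 1 = 1 := Equiv.ext fun y => by
    obtain ⟨x, rfl⟩ := QuotientGroup.mk_surjective y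
    rw [pow_one, hσn, hαq]
    rfl
  have hidx : Nat.card (P ⧸ center P) = p ^ 2 := by
    have h1 := card_eq_card_quotient_mul_card_subgroup (center P)
    rw [hZcard, hPcard] at h1
    exact Nat.eq_of_mul_eq_mul_right (Fact.out : p.Prime).pos (by rw [← h1]; ring)
  haveI := Fact.mk hq
  haveI := Fintype.ofFinite (P ⧸ center P)
  have hmod := Equiv.Perm.card_compl_support_modEq (p := q) (n := 1) hσq
  have hsup : σ.supportᶜ = {((1 : P) : P ⧸ center P)} := by
    ext y
    obtain ⟨x, rfl⟩ := QuotientGroup.mk_surjective y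
    rw [Finset.mem_compl, Equiv.Perm.notMem_support, Finset.mem_singleton, hσ]
    constructor
    · intro h
      refine (QuotientGroup.eq_one_iff x).mpr (hfree x ?_)
      exact QuotientGroup.eq.mp h.symm
    · intro h
      have hx : x ∈ center P := (QuotientGroup.eq_one_iff x).mp h
      rw [hZfix x hx]
  rw [hsup, Finset.card_singleton, ← Nat.card_eq_fintype_card, hidx] at hmod
  have hqdvd : q ∣ p ^ 2 - 1 :=
    (Nat.modEq_iff_dvd' (Nat.one_le_pow _ _ (Fact.out : p.Prime).pos)).mp hmod
  by_contra hp5
  have hp' : p = 2 ∨ p = 3 := by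
    have h2 := (Fact.out : p.Prime).two_le
    have h4 : p ≠ 4 := fun e => absurd (e ▸ (Fact.out : p.Prime)) (by decide)
    omega
  rcases hp' with rfl | rfl
  · -- the quotient has four elements, the nontrivial ones form one orbit
    have hq3 : q = 3 := (Nat.prime_dvd_prime_iff_eq hq Nat.prime_three).mp (by simpa using hqdvd)
    subst hq3
    have hα3 : ∀ x, α (α (α x)) = x := fun x => by
      have := DFunLike.congr_fun hαq x
      simpa [pow_succ] using this
    have hne : ∀ x, x ∉ center P → (α x : P ⧸ center P) ≠ (x : P ⧸ center P) := fun x hx h =>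
      hx (hfree x (QuotientGroup.eq.mp h.symm))
    have hv1 : α v ∉ center P := fun h => hv (by
      have := hZinv _ (hZinv _ h); rwa [hα3] at this)
    have hv2 : α (α v) ∉ center P := fun h => hv (by
      have := hZinv _ h; rwa [hα3] at this)
    have hset : ({(1 : P ⧸ center P), (v : P ⧸ center P), (α v : P ⧸ center P),
        (α (α v) : P ⧸ center P)} : Finset (P ⧸ center P)) = Finset.univ := by
      refine Finset.eq_univ_of_card _ ?_
      rw [← Nat.card_eq_fintype_card, hidx]
      have e0 : ∀ x, x ∉ center P → (1 : P ⧸ center P) ≠ (x : P ⧸ center P) := fun x hx h =>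
        hx ((QuotientGroup.eq_one_iff x).mp h.symm)
      have e1 := (hne v hv).symm
      have e2 := (hne _ hv1).symm
      have e3 : (v : P ⧸ center P) ≠ (α (α v) : P ⧸ center P) := fun h => by
        have := hne _ hv2
        rw [hα3] at this
        exact this h
      rw [Finset.card_insert_of_notMem (by simp [e0 v hv, e0 _ hv1, e0 _ hv2]),
        Finset.card_insert_of_notMem (by simp [e1, e3]),
        Finset.card_insert_of_notMem (by simp [e2]), Finset.card_singleton]
      rfl
    have hsq : ∀ x : P, x ^ 2 = 1 := by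
      intro x
      have key : ∀ w : P, w ^ 2 = 1 → (x : P ⧸ center P) = (w : P ⧸ center P) → x ^ 2 = 1 := by
        intro w hw hx
        have hz : w⁻¹ * x ∈ center P := QuotientGroup.eq.mp hx.symm
        have : x = w * (w⁻¹ * x) := by group
        rw [this, (show Commute w (w⁻¹ * x) from mem_center_iff.mp hz w).mul_pow, hw,
          hZexp _ hz, one_mul]
      have hmem : (x : P ⧸ center P) ∈ (Finset.univ : Finset (P ⧸ center P)) := Finset.mem_univ _
      rw [← hset] at hmem
      simp only [Finset.mem_insert, Finset.mem_singleton] at hmem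
      rcases hmem with h | h | h | h
      · exact key 1 (one_pow 2) h
      · exact key v hvp h
      · exact key (α v) (by rw [← map_pow, hvp, map_one]) h
      · exact key (α (α v)) (by rw [← map_pow, ← map_pow, hvp, map_one, map_one]) h
    have hinv : ∀ x : P, x⁻¹ = x := fun x => inv_eq_of_mul_eq_one_right (by rw [← sq, hsq])
    refine hab₀ ?_
    rw [← hinv (a₀ * b₀), mul_inv_rev, hinv, hinv]
  · -- `q = 2`, so `α` inverts `v` modulo the centre
    have hq2 : q = 2 := (Nat.prime_dvd_prime_iff_eq hq Nat.prime_two).mp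
      (hq.dvd_of_dvd_pow (n := 3) (by simpa using hqdvd))
    subst hq2
    have hα2 : ∀ x, α (α x) = x := fun x => by
      have := DFunLike.congr_fun hαq x
      simpa [pow_succ] using this
    have h1 : v * α v ∈ center P := by
      refine hfree _ ?_
      rw [map_mul, hα2]
      have hc : ⁅(α v)⁻¹, v⁻¹⁆ ∈ center P :=
        hcZ (commutator_mem_commutator (mem_top _) (mem_top _))
      rwa [show (v * α v)⁻¹ * (α v * v) = ⁅(α v)⁻¹, v⁻¹⁆ by group]
    refine hv (hC v ?_)
    have hle : center P ⊔ zpowers v ≤ (center P ⊔ zpowers v).comap α.toMonoidHom := by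
      refine sup_le (fun z hz => mem_sup_left (hZinv z hz)) (zpowers_le.mpr ?_)
      rw [mem_comap, MulEquiv.coe_toMonoidHom]
      have : α v = v⁻¹ * (v * α v) := by group
      rw [this]
      exact mul_mem (mem_sup_right (inv_mem (mem_zpowers v))) (mem_sup_left h1)
    refine hfix (center P ⊔ zpowers v) ?_ (fun g hg => hle hg) v (mem_sup_right (mem_zpowers v))
    intro htop
    refine hv (mem_center_iff.mpr fun g => ?_)
    have hc : center P ⊔ zpowers v ≤ centralizer {v} := sup_le (center_le_centralizer _)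
      (zpowers_le.mpr (mem_centralizer_singleton_iff.mpr rfl))
    exact mem_centralizer_singleton_iff.mp (hc (htop ▸ mem_top g))

end Cfsg.Agent.Lib.MinNNSylow
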