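import Cfsg.Agent.Lib.MinNNSylow.Aut
import Cfsg.Agent.Lib.PSolvable.HallHigman
import Cfsg.Agent.Lib.OddMax.Sec10.PLength
import Cfsg.Agent.Lib.Coprime.Cocyclic

/-!
`p`-solvable groups whose Sylow `p`-subgroup has a Schmidt automorphism have `p`-length one.
-/

set_option autoImplicit false
set_option linter.style.haveILetI false
open Cfsg

namespace Cfsg.Agent.Lib.MinNNSylow

open Subgroup
open scoped commutatorElement

universe u

/-- Conjugation by powers, when the first commutator is fixed. -/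
theorem zpow_conj_eq {G : Type*} [Group G] {x d e : G} (he : Commute x e)
    (hd : x * d * x⁻¹ = e * d) (i : ℤ) : x ^ i * d * (x ^ i)⁻¹ = e ^ i * d := by
  have h1 : d * x * d⁻¹ = e⁻¹ * x := by
    have h2 : x * d = e * d * x := mul_inv_eq_iff_eq_mul.mp hd
    calc d * x * d⁻¹ = e⁻¹ * (e * d * x) * d⁻¹ := by group
      _ = e⁻¹ * x := by rw [← h2]; group
  have h3 : d * x ^ i * d⁻¹ = (e ^ i)⁻¹ * x ^ i := by
    rw [← conj_zpow, h1, he.symm.inv_left.mul_zpow, inv_zpow]
  have h4 : d * x ^ i = (e ^ i)⁻¹ * x ^ i * d := mul_inv_eq_iff_eq_mul.mp h3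
  calc x ^ i * d * (x ^ i)⁻¹ = e ^ i * ((e ^ i)⁻¹ * x ^ i * d) * (x ^ i)⁻¹ := by group
    _ = e ^ i * d := by rw [← h4]; group

set_option maxHeartbeats 1000000 in
theorem le_pCore_of_hasSchmidtAut {G : Type u} [Group G] [Finite G] {p : ℕ} [hp : Fact p.Prime]
    (hG : IsPSolvable p G) (h0 : pPrimeCore p G = ⊥) (P : Sylow p G)
    (hna : ∃ a b : (P : Subgroup G), a * b ≠ b * a) (hS : HasSchmidtAut (P : Subgroup G)) :
    (P : Subgroup G) ≤ pCore p G := by
  classical
  obtain ⟨hc0, hpow0, hL10, hexp0, h50⟩ := schmidt_properties P.isPGroup' hna hS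
  -- the centre of `P`, as a subgroup of `G`
  set Z : Subgroup G := (center (P : Subgroup G)).map (P : Subgroup G).subtype with hZdef
  have hZP : Z ≤ (P : Subgroup G) := map_subtype_le _
  have hZmem : ∀ {x : G} (hx : x ∈ (P : Subgroup G)),
      x ∈ Z ↔ (⟨x, hx⟩ : (P : Subgroup G)) ∈ center (P : Subgroup G) := by
    intro x hx
    exact mem_map_iff_mem (subtype_injective _) (x := (⟨x, hx⟩ : (P : Subgroup G)))
  have hZcomm : ∀ z ∈ Z, ∀ x ∈ (P : Subgroup G), x * z = z * x := fun z hz x hx =>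
    congrArg Subtype.val (mem_center_iff.mp ((hZmem (hZP hz)).mp hz) ⟨x, hx⟩)
  have hmkZ : ∀ x ∈ (P : Subgroup G), (∀ y ∈ (P : Subgroup G), y * x = x * y) → x ∈ Z :=
    fun x hx h => (hZmem hx).mpr (mem_center_iff.mpr fun g => Subtype.ext (h g g.2))
  have hcP : ∀ x ∈ (P : Subgroup G), ∀ y ∈ (P : Subgroup G), ⁅x, y⁆ ∈ Z := fun x hx y hy =>
    ⟨⁅⟨x, hx⟩, ⟨y, hy⟩⁆, hc0 (commutator_mem_commutator (mem_top _) (mem_top _)),
      map_commutatorElement _ _ _⟩
  have hpP : ∀ x ∈ (P : Subgroup G), x ^ p ∈ Z := fun x hx =>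
    ⟨⟨x, hx⟩ ^ p, hpow0 _, map_pow _ _ _⟩
  have hL1 : ∀ w ∈ (P : Subgroup G), w ∉ Z → ∀ z ∈ Z, ∃ u ∈ (P : Subgroup G), ⁅w, u⁆ = z := by
    intro w hw hwZ z hz
    obtain ⟨u, hu⟩ := hL10 ⟨w, hw⟩ (fun h => hwZ ((hZmem hw).mpr h)) _ ((hZmem (hZP hz)).mp hz)
    exact ⟨u, u.2, congrArg Subtype.val hu⟩
  have hexp : ∀ z ∈ Z, z ^ p = 1 := fun z hz =>
    congrArg Subtype.val (hexp0 _ ((hZmem (hZP hz)).mp hz))
  set V := pCore p G with hVdef
  have hVP : V ≤ (P : Subgroup G) := PSolvable.pCore_le_sylow P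
  have hCV : centralizer (V : Set G) ≤ V := PSolvable.centralizer_pCore_le_of_isPSolvable hG h0
  have hZV : Z ≤ V := fun z hz =>
    hCV (mem_centralizer_iff.mpr fun v hv => hZcomm z hz v (hVP hv))
  by_contra hPV
  -- it suffices to show that `Z` is normal
  suffices hZn : Z.Normal by
    apply hPV
    haveI : (V.map (QuotientGroup.mk' Z)).Normal :=
      Normal.map inferInstance _ (QuotientGroup.mk'_surjective Z)
    set K := centralizer (Z : Set G) ⊓
      (centralizer ((V.map (QuotientGroup.mk' Z) : Subgroup (G ⧸ Z)) : Set (G ⧸ Z))).comap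
        (QuotientGroup.mk' Z) with hKdef
    haveI : K.Normal := by rw [hKdef]; infer_instance
    have hPK : (P : Subgroup G) ≤ K := by
      intro x hx
      refine mem_inf.mpr ⟨mem_centralizer_iff.mpr fun z hz => (hZcomm z hz x hx).symm,
        mem_comap.mpr (mem_centralizer_iff.mpr ?_)⟩
      rintro _ ⟨v, hv, rfl⟩
      rw [← commutatorElement_eq_one_iff_mul_comm, ← map_commutatorElement]
      exact (QuotientGroup.eq_one_iff _).mpr (hcP v (hVP hv) x hx)
    have hKp : IsPGroup p K := by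
      intro g
      obtain ⟨e, m, hm, hem⟩ := Nat.exists_eq_pow_mul_and_not_dvd (orderOf_pos g).ne' p
        hp.out.ne_one
      refine ⟨e, ?_⟩
      have hcop : p.Coprime m := hp.out.coprime_iff_not_dvd.mpr hm
      obtain ⟨hg1, hg2⟩ := mem_inf.mp (g ^ p ^ e).2
      have hm1 : ((g ^ p ^ e : K) : G) ^ m = 1 := by
        rw [← SubmonoidClass.coe_pow, ← pow_mul, ← hem, pow_orderOf_eq_one, OneMemClass.coe_one]
      generalize hh : ((g ^ p ^ e : K) : G) = h at hg1 hg2 hm1
      have hV : h ∈ V := hCV (mem_centralizer_iff.mpr fun v hv => by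
        have hz : ⁅h, v⁆ ∈ Z := by
          rw [← QuotientGroup.eq_one_iff, ← QuotientGroup.mk'_apply, map_commutatorElement,
            commutatorElement_eq_one_iff_mul_comm]
          exact (mem_centralizer_iff.mp (mem_comap.mp hg2) _ (mem_map_of_mem _ hv)).symm
        have h1 := zpow_conj_eq (x := h) (d := v) (e := ⁅h, v⁆)
          (mem_centralizer_iff.mp hg1 _ hz).symm (by rw [commutatorElement_def]; group) (m : ℤ)
        rw [zpow_natCast, zpow_natCast, hm1] at h1
        have h2 : ⁅h, v⁆ ^ m = 1 := by simpa using h1.symm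
        have h3 : ⁅h, v⁆ ^ Nat.gcd p m = 1 := pow_gcd_eq_one.mpr ⟨hexp _ hz, h2⟩
        rw [hcop, pow_one, commutatorElement_eq_one_iff_mul_comm] at h3
        exact h3.symm)
      obtain ⟨k, hk⟩ := IsPGroup.iff_orderOf.mp PSolvable.pCore_isPGroup (⟨h, hV⟩ : V)
      rw [Subgroup.orderOf_mk] at hk
      have h4 : orderOf h = 1 := Nat.eq_one_of_dvd_coprimes (hcop.pow_left k) (hk ▸ dvd_rfl)
        (orderOf_dvd_of_pow_eq_one hm1)
      exact Subtype.ext (hh.trans (orderOf_eq_one_iff.mp h4))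
    exact hPK.trans (PSolvable.le_pCore hKp)
  -- `Z` is normalised by `g` once it is mapped into itself
  have hconjZ : ∀ g : G, (∀ z ∈ Z, g * z * g⁻¹ ∈ Z) → g ∈ normalizer (Z : Set G) :=
    fun g h => mem_normalizer_fintype h
  rw [← normalizer_eq_top_iff, eq_top_iff]
  -- the quotient by `V`
  set f := QuotientGroup.mk' V with hfdef
  have hfs : Function.Surjective f := QuotientGroup.mk'_surjective V
  have hker : f.ker = V := QuotientGroup.ker_mk' V
  set T : Sylow p (G ⧸ V) := P.mapSurjective hfs with hTdef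
  have hT : (T : Subgroup (G ⧸ V)) = (P : Subgroup G).map f := rfl
  haveI hTc : IsMulCommutative (T : Subgroup (G ⧸ V)) := by
    refine ⟨⟨?_⟩⟩
    rintro ⟨_, x, hx, rfl⟩ ⟨_, y, hy, rfl⟩
    refine Subtype.ext ?_
    show f x * f y = f y * f x
    rw [← commutatorElement_eq_one_iff_mul_comm, ← map_commutatorElement]
    exact (QuotientGroup.eq_one_iff _).mpr (hZV (hcP x hx y hy))
  haveI : Group.IsNilpotent (T : Subgroup (G ⧸ V)) := T.isPGroup'.isNilpotent
  have hlen := PSolvable.pLengthLE_of_nilpotencyClass_le 1 (PSolvable.isPSolvable_quotient hG V) T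
    (Group.IsNilpotent.nilpotencyClass_le_one_iff.mpr hTc)
  rw [OddMax.Sec10.pLengthLE_one_iff] at hlen
  haveI : (pPrimePCore p (G ⧸ V)).Normal := PSolvable.pPrimePCore_normal
  have hTN : (T : Subgroup (G ⧸ V)) ≤ pPrimePCore p (G ⧸ V) := by
    rw [← relIndex_eq_one]
    obtain ⟨k, hk⟩ := IsPGroup.iff_card.mp T.isPGroup'
    exact Nat.eq_one_of_dvd_coprimes (hlen.pow_right k)
      (relIndex_dvd_index_of_normal _ _) (hk ▸ relIndex_dvd_card _ _)
  set D := pPrimeCore p (G ⧸ V) with hDdef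
  have hNTD : pPrimePCore p (G ⧸ V) ≤ (T : Subgroup (G ⧸ V)) ⊔ D := by
    have h1 : pCore p ((G ⧸ V) ⧸ D) ≤
        (T : Subgroup (G ⧸ V)).map (QuotientGroup.mk' D) :=
      PSolvable.pCore_le_sylow (T.mapSurjective (QuotientGroup.mk'_surjective D))
    refine (comap_mono h1).trans ?_
    rw [comap_map_eq, QuotientGroup.ker_mk']
  set N := (pPrimePCore p (G ⧸ V)).comap f with hNdef
  haveI : N.Normal := Normal.comap inferInstance f
  have hPN : (P : Subgroup G) ≤ N := fun x hx => hTN (mem_map_of_mem f hx)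
  rw [← Sylow.normalizer_sup_eq_top' P hPN]
  refine sup_le ?_ ?_
  · intro g hg
    refine hconjZ g fun z hz => hmkZ _ ((mem_normalizer_iff.mp hg z).mp (hZP hz)) fun y hy => ?_
    have hy' : g⁻¹ * y * g ∈ (P : Subgroup G) := by
      have := (mem_normalizer_iff.mp (inv_mem hg) y).mp hy
      simpa using this
    have h1 := hZcomm z hz _ hy'
    calc y * (g * z * g⁻¹) = g * (g⁻¹ * y * g * z) * g⁻¹ := by group
      _ = g * z * g⁻¹ * y := by rw [h1]; group
  have hVH : V ≤ normalizer (Z : Set G) := fun v hv => hconjZ v fun z hz => by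
    rw [hZcomm z hz v (hVP hv), mul_inv_cancel_right]; exact hz
  have hPH : (P : Subgroup G) ≤ normalizer (Z : Set G) := fun v hv => hconjZ v fun z hz => by
    rw [hZcomm z hz v hv, mul_inv_cancel_right]; exact hz
  suffices hD : D ≤ (normalizer (Z : Set G)).map f by
    have h1 : N ≤ ((normalizer (Z : Set G)).map f).comap f :=
      comap_mono (hNTD.trans (sup_le (map_mono hPH) hD))
    rwa [comap_map_eq, hker, sup_eq_left.mpr hVH] at h1
  have hcop : (Nat.card (T : Subgroup (G ⧸ V))).Coprime (Nat.card D) := by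
    obtain ⟨k, hk⟩ := IsPGroup.iff_card.mp T.isPGroup'
    rw [hk]
    exact (PSolvable.pPrimeCore_coprime (p := p) (G := G ⧸ V)).symm.pow_left k
  refine Coprime.le_of_cocyclic (A := (T : Subgroup (G ⧸ V)))
    (by rw [normalizer_eq_top]; exact le_top) hcop ?_
  rintro B hB _ ⟨a, ha, rfl⟩ hBa gb ⟨hgD, hgB⟩
  obtain ⟨g, rfl⟩ := hfs gb
  refine mem_map_of_mem f (hconjZ g ?_)
  rw [hT] at hBa hB
  -- the preimage of `B` in `P`
  set Bh := (P : Subgroup G) ⊓ B.comap f with hBhdef
  have hdec : ∀ x ∈ (P : Subgroup G), ∃ b ∈ Bh, ∃ i : ℤ, x = b * a ^ i := by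
    intro x hx
    have hn : zpowers (f a) ≤ normalizer (B : Set (G ⧸ V)) := by
      refine zpowers_le.mpr (mem_normalizer_fintype fun b hb => ?_)
      have h1 : f a * b = b * f a := congrArg Subtype.val
        (hTc.is_comm.comm (⟨f a, mem_map_of_mem f ha⟩ : (T : Subgroup (G ⧸ V))) ⟨b, hB hb⟩)
      rwa [h1, mul_inv_cancel_right]
    have hx' : f x ∈ ((B ⊔ zpowers (f a) : Subgroup (G ⧸ V)) : Set (G ⧸ V)) := by
      rw [hBa]; exact mem_map_of_mem f hx
    rw [coe_mul_of_right_le_normalizer_left B _ hn] at hx'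
    obtain ⟨b, hb, _, ⟨i, rfl⟩, hbi⟩ := hx'
    refine ⟨x * (a ^ i)⁻¹, mem_inf.mpr ⟨mul_mem hx (inv_mem (zpow_mem ha i)), ?_⟩, i, by group⟩
    rw [mem_comap, map_mul, map_inv, map_zpow, ← hbi]
    simpa using hb
  have he : ∀ b ∈ Bh, g * b * g⁻¹ * b⁻¹ ∈ V := by
    intro b hb
    rw [← hker, MonoidHom.mem_ker]
    simp only [map_mul, map_inv]
    rw [← mem_centralizer_iff.mp hgB _ (mem_comap.mp (mem_inf.mp hb).2), mul_inv_cancel_right,
      mul_inv_cancel]
  have hBP : Bh ≤ (P : Subgroup G) := inf_le_left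
  set W := V ⊓ centralizer (V : Set G) with hWdef
  haveI hWn : W.Normal := normal_inf_normal _ _
  have hZW : Z ≤ W := le_inf hZV fun z hz =>
    mem_centralizer_iff.mpr fun v hv => hZcomm z hz v (hVP hv)
  have hWP : W ≤ (P : Subgroup G) := inf_le_left.trans hVP
  have hWV : ∀ u ∈ W, ∀ v ∈ V, v * u = u * v := fun u hu v hv =>
    mem_centralizer_iff.mp (mem_inf.mp hu).2 v hv
  by_cases hC0 : ∀ w ∈ W, (∀ b ∈ Bh, b * w = w * b) → w ∈ Z
  · intro z hz
    refine hC0 _ (hWn.conj_mem z (hZW hz) g) fun b hb => ?_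
    have h1 : Commute (g * b * g⁻¹) (g * z * g⁻¹) :=
      (show Commute b z from hZcomm z hz b (hBP hb)).map (MulAut.conj g)
    have h2 : Commute (g * b * g⁻¹ * b⁻¹) (g * z * g⁻¹) :=
      hWV _ (hWn.conj_mem z (hZW hz) g) _ (he b hb)
    have h3 : b = (g * b * g⁻¹ * b⁻¹)⁻¹ * (g * b * g⁻¹) := by group
    rw [h3]
    exact h2.inv_left.mul_left h1
  push Not at hC0
  obtain ⟨w, hwW, hwB, hwZ⟩ := hC0
  set c := ⁅w, a⁆ with hcdef
  have hcZ : c ∈ Z := hcP w (hWP hwW) a ha
  have hgen : ∀ z ∈ Z, ∃ i : ℤ, z = c ^ i := by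
    intro z hz
    obtain ⟨u, hu, rfl⟩ := hL1 w (hWP hwW) hwZ z hz
    obtain ⟨b, hb, i, rfl⟩ := hdec u hu
    refine ⟨i, ?_⟩
    have h1 : ⁅w, b⁆ = 1 := commutatorElement_eq_one_iff_mul_comm.mpr (hwB b hb).symm
    have h2 : ⁅w, a ^ i⁆ = c ^ i := by
      rw [commutatorElement_def, ← conj_zpow, show w * a * w⁻¹ = c * a by
        rw [hcdef, commutatorElement_def]; group,
        (show Commute c a from (hZcomm c hcZ a ha).symm).mul_zpow, mul_inv_cancel_right]
    rw [commutatorElement_mul_right_eq_mul_conj, h1, h2, one_mul,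
      hZcomm _ (zpow_mem hcZ i) b (hBP hb), mul_inv_cancel_right]
  have hc1 : c ≠ 1 := by
    intro h
    obtain ⟨x, y, hxy⟩ := hna
    obtain ⟨i, hi⟩ := hgen _ (hcP x x.2 y y.2)
    rw [h, one_zpow] at hi
    exact hxy (Subtype.ext (commutatorElement_eq_one_iff_mul_comm.mp hi))
  have hZc : Z = zpowers c := le_antisymm (fun z hz => by
    obtain ⟨i, rfl⟩ := hgen z hz
    exact zpow_mem (mem_zpowers c) i) (zpowers_le.mpr hcZ)
  have hocd : orderOf c = p := orderOf_eq_prime (hexp c hcZ) hc1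
  have hcardZ : Nat.card Z = p := by rw [hZc, Nat.card_zpowers, hocd]
  -- it is enough to move one nontrivial element of `Z` into `Z`
  have hone : ∀ c' ∈ Z, c' ≠ 1 → g * c' * g⁻¹ ∈ Z → ∀ z ∈ Z, g * z * g⁻¹ ∈ Z := by
    intro c' hc' hc'1 hconj z hz
    have hZc' : zpowers c' = Z := eq_of_le_of_card_ge (zpowers_le.mpr hc') (by
      rw [hcardZ, Nat.card_zpowers, orderOf_eq_prime (hexp c' hc') hc'1])
    rw [← hZc'] at hz
    obtain ⟨i, rfl⟩ := hz
    simp only
    rw [← conj_zpow]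
    exact zpow_mem hconj i
  by_cases hA : ∃ b ∈ Bh, ∃ u ∈ W, ⁅b, u⁆ ≠ 1
  · obtain ⟨b, hb, u, hu, hbu⟩ := hA
    refine hone _ (hcP b (hBP hb) u (hWP hu)) hbu ?_
    have hu' : g * u * g⁻¹ ∈ W := hWn.conj_mem u hu g
    have hconj : g * ⁅b, u⁆ * g⁻¹ = ⁅g * b * g⁻¹ * b⁻¹ * b, g * u * g⁻¹⁆ := by
      rw [inv_mul_cancel_right]
      exact map_commutatorElement (MulAut.conj g).toMonoidHom b u
    rw [hconj, commutatorElement_mul_left_eq_conj_mul,
      commutatorElement_eq_one_iff_mul_comm.mpr (hWV _ hu' _ (he b hb)), mul_one,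
      hZcomm _ (hcP b (hBP hb) _ (hWP hu')) _ (hVP (he b hb)), mul_inv_cancel_right]
    exact hcP b (hBP hb) _ (hWP hu')
  push Not at hA
  by_cases hVab : ∃ v ∈ V, ∃ v' ∈ V, ⁅v, v'⁆ ≠ 1
  · obtain ⟨v, hv, v', hv', hne⟩ := hVab
    refine hone _ (hcP v (hVP hv) v' (hVP hv')) hne ?_
    rw [show g * ⁅v, v'⁆ * g⁻¹ = ⁅g * v * g⁻¹, g * v' * g⁻¹⁆ from
      map_commutatorElement (MulAut.conj g).toMonoidHom v v']
    exact hcP _ (hVP ((inferInstance : V.Normal).conj_mem v hv g)) _
      (hVP ((inferInstance : V.Normal).conj_mem v' hv' g))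
  push Not at hVab
  have hVcomm : ∀ v ∈ V, ∀ v' ∈ V, v * v' = v' * v := fun v hv v' hv' =>
    commutatorElement_eq_one_iff_mul_comm.mp (hVab v hv v' hv')
  have hVW : V ≤ W := le_inf le_rfl fun v hv =>
    mem_centralizer_iff.mpr fun v' hv' => hVcomm v' hv' v hv
  have hBV : Bh ≤ V := fun b hb => hCV (mem_centralizer_iff.mpr fun v hv =>
    (commutatorElement_eq_one_iff_mul_comm.mp (hA b hb v (hVW hv))).symm)
  have haV : a ∉ V := by
    intro h
    apply hPV
    intro x hx
    obtain ⟨b, hb, i, rfl⟩ := hdec x hx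
    exact mul_mem (hBV hb) (zpow_mem h i)
  have hwV : w ∈ V := (mem_inf.mp hwW).1
  -- an element of `V` commuting with `a` is in `Z`
  have hCa : ∀ v ∈ V, Commute a v → v ∈ Z := fun v hv h => hmkZ v (hVP hv) fun y hy => by
    obtain ⟨b, hb, i, rfl⟩ := hdec y hy
    exact ((show Commute b v from hVcomm b (hBV hb) v hv).mul_left (h.zpow_left i)).eq
  -- orders
  have hVle : Nat.card V ≤ p ^ 2 := by
    let θ : V →* Z :=
      { toFun := fun v => ⟨⁅(v : G), a⁆, hcP _ (hVP v.2) a ha⟩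
        map_one' := Subtype.ext (commutatorElement_one_left a)
        map_mul' := fun v v' => Subtype.ext (by
          show ⁅(v : G) * v', a⁆ = ⁅(v : G), a⁆ * ⁅(v' : G), a⁆
          rw [commutatorElement_mul_left_eq_conj_mul,
            hZcomm _ (hcP _ (hVP v'.2) a ha) _ (hVP v.2), mul_inv_cancel_right]
          exact hZcomm _ (hcP _ (hVP v.2) a ha) _ (hZP (hcP _ (hVP v'.2) a ha))) }
    have h1 : θ.ker.map V.subtype ≤ Z := by
      rintro _ ⟨v, hv, rfl⟩
      exact hCa v v.2 (commutatorElement_eq_one_iff_mul_comm.mp (congrArg Subtype.val hv)).symm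
    have h2 : Nat.card θ.ker ≤ p := by
      rw [← card_map_of_injective V.subtype_injective, ← hcardZ]
      exact Nat.le_of_dvd Nat.card_pos (card_dvd_of_le h1)
    have h3 : θ.ker.index ≤ p := by
      rw [index_ker, ← hcardZ]
      exact Nat.le_of_dvd Nat.card_pos (card_subgroup_dvd_card _)
    rw [← θ.ker.card_mul_index, sq]
    exact Nat.mul_le_mul h2 h3
  have hcardV : Nat.card V = p ^ 2 := by
    obtain ⟨k, hk⟩ := IsPGroup.iff_card.mp (PSolvable.pCore_isPGroup (p := p) (G := G))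
    have h1 : p < Nat.card V := by
      rw [← hcardZ]
      refine lt_of_le_of_ne (Nat.le_of_dvd Nat.card_pos (card_dvd_of_le hZV)) fun e => hwZ ?_
      rw [eq_of_le_of_card_ge hZV e.ge]
      exact hwV
    change Nat.card V = p ^ k at hk
    rw [hk] at h1 hVle ⊢
    have h2 : k ≤ 2 := (Nat.pow_le_pow_iff_right hp.out.one_lt).mp hVle
    have h3 : 1 < k := (Nat.pow_lt_pow_iff_right hp.out.one_lt).mp (by simpa using h1)
    rw [show k = 2 by omega]
  have hfa : orderOf (f a) = p := by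
    refine orderOf_eq_prime ?_ fun h => haV ((QuotientGroup.eq_one_iff a).mp h)
    rw [← map_pow]
    exact (QuotientGroup.eq_one_iff _).mpr (hZV (hpP a ha))
  have hcardP : Nat.card (P : Subgroup G) = p ^ 3 := by
    have h1 : (P : Subgroup G).map f = zpowers (f a) := by
      refine le_antisymm ?_ (zpowers_le.mpr (mem_map_of_mem f ha))
      rintro _ ⟨x, hx, rfl⟩
      obtain ⟨b, hb, i, rfl⟩ := hdec x hx
      refine ⟨i, ?_⟩
      simp only [map_mul, map_zpow]
      rw [show f b = 1 from (QuotientGroup.eq_one_iff b).mpr (hBV hb), one_mul]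
    have h2 := PSolvable.card_mul_relIndex hVP
    rw [← hker, relIndex_ker, h1, Nat.card_zpowers, hfa, hker, hcardV] at h2
    rw [← h2]
    ring
  by_cases hVp : ∃ v ∈ V, v ^ p ≠ 1
  · obtain ⟨v, hv, hvp⟩ := hVp
    refine hone _ (hpP v (hVP hv)) hvp ?_
    rw [← conj_pow]
    exact hpP _ (hVP ((inferInstance : V.Normal).conj_mem v hv g))
  push Not at hVp
  have hp5 : 5 ≤ p := h50 ⟨w, hWP hwW⟩ (fun h => hwZ ((hZmem _).mpr h)) (Subtype.ext (hVp w hwV))
    (by rw [← card_map_of_injective (subtype_injective (P : Subgroup G))]; exact hcardZ) hcardP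
  by_contra hcon
  -- now `V` is generated by `c` and its conjugate `d`
  set d := g * c * g⁻¹ with hddef
  have hdZ : d ∉ Z := fun h => hcon (hone c hcZ hc1 h)
  have hdV : d ∈ V := (inferInstance : V.Normal).conj_mem c (hZV hcZ) g
  obtain ⟨A, hA'⟩ := hgen _ (hcP a ha d (hVP hdV))
  have hAne : (A : ZMod p) ≠ 0 := by
    intro h
    rw [ZMod.intCast_zmod_eq_zero_iff_dvd, ← hocd, orderOf_dvd_iff_zpow_eq_one] at h
    rw [h, commutatorElement_eq_one_iff_mul_comm] at hA'
    exact hdZ (hCa d hdV hA')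
  set d₀ := g⁻¹ * c * g with hd₀def
  have hd₀V : d₀ ∈ V := by
    have := (inferInstance : V.Normal).conj_mem c (hZV hcZ) g⁻¹
    rwa [inv_inv] at this
  have hd₀Z : d₀ ∉ Z := by
    intro h
    apply hdZ
    have h1 : ∀ z ∈ Z, g⁻¹ * z * g⁻¹⁻¹ ∈ Z := by
      intro z hz
      obtain ⟨i, rfl⟩ := hgen z hz
      rw [← conj_zpow, inv_inv]
      exact zpow_mem h i
    exact (mem_normalizer_iff.mp ((inv_mem_iff).mp (hconjZ _ h1)) c).mp hcZ
  obtain ⟨C, hC'⟩ := hgen _ (hcP a ha d₀ (hVP hd₀V))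
  have hCne : (C : ZMod p) ≠ 0 := by
    intro h
    rw [ZMod.intCast_zmod_eq_zero_iff_dvd, ← hocd, orderOf_dvd_iff_zpow_eq_one] at h
    rw [h, commutatorElement_eq_one_iff_mul_comm] at hC'
    exact hd₀Z (hCa d₀ hd₀V hC')
  set a' := g * a * g⁻¹ with ha'def
  have hdp : d ^ p = 1 := hVp d hdV
  have hac : a * c * a⁻¹ = c := by rw [hZcomm c hcZ a ha, mul_inv_cancel_right]
  have had : a * d * a⁻¹ = c ^ A * d := by rw [← hA', commutatorElement_def]; group
  have ha'd : a' * d * a'⁻¹ = d := by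
    calc a' * d * a'⁻¹ = g * (a * c * a⁻¹) * g⁻¹ := by rw [ha'def, hddef]; group
      _ = d := by rw [hac]
  have ha'c : a' * c * a'⁻¹ = d ^ C * c := by
    calc a' * c * a'⁻¹ = g * (⁅a, d₀⁆ * d₀) * g⁻¹ := by
          rw [ha'def, hd₀def, commutatorElement_def]; group
      _ = d ^ C * c := by
          rw [hC', hd₀def, hddef, conj_zpow]; group
  have hdpz : ∀ n : ℤ, (p : ℤ) ∣ n → d ^ n = 1 := fun n ⟨k, hk⟩ => by
    rw [hk, zpow_mul, zpow_natCast, hdp, one_zpow]
  have hcpz : ∀ n : ℤ, (p : ℤ) ∣ n → c ^ n = 1 := fun n ⟨k, hk⟩ => by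
    rw [hk, zpow_mul, zpow_natCast, hexp c hcZ, one_zpow]
  -- the braid relation
  have hbraid : ∀ i j : ℤ, ((i * A * (j * C) + 1 : ℤ) : ZMod p) = 0 →
      (i : ZMod p) = (j : ZMod p) := by
    intro i j hij
    rw [ZMod.intCast_zmod_eq_zero_iff_dvd] at hij
    have hcd : Commute c d := hVcomm c (hZV hcZ) d hdV
    set t := i * A with ht
    set u := j * C with hu
    set X := MulAut.conj (a ^ i) with hXdef
    set Y := MulAut.conj (a' ^ j) with hYdef
    have hXc : X c = c := by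
      rw [hXdef, MulAut.conj_apply, hZcomm c hcZ _ (zpow_mem ha i), mul_inv_cancel_right]
    have hXd : X d = c ^ t * d := by
      rw [hXdef, MulAut.conj_apply, zpow_conj_eq (e := c ^ A)
        ((show Commute a c from hZcomm c hcZ a ha).zpow_right A) had, ← zpow_mul, mul_comm A i]
    have hYd : Y d = d := by
      rw [hYdef, MulAut.conj_apply,
        ((show Commute a' d from mul_inv_eq_iff_eq_mul.mp ha'd).zpow_left j).eq,
        mul_inv_cancel_right]
    have hYc : Y c = d ^ u * c := by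
      rw [hYdef, MulAut.conj_apply, zpow_conj_eq (e := d ^ C)
        ((show Commute a' d from mul_inv_eq_iff_eq_mul.mp ha'd).zpow_right C) ha'c, ← zpow_mul,
        mul_comm C j]
    have e1 : X (Y (X c)) = d ^ u := by
      rw [hXc, hYc, map_mul, map_zpow, hXc, hXd, ((hcd.zpow_left t)).mul_zpow, ← zpow_mul,
        mul_assoc, ← (hcd.zpow_right u).eq, ← mul_assoc, ← zpow_add_one, hcpz _ hij, one_mul]
    have e2 : X (Y (X d)) = c ^ t := by
      rw [hXd, map_mul Y, map_zpow Y, hYc, hYd, ((hcd.symm.zpow_left u)).mul_zpow, ← zpow_mul,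
        mul_assoc, (hcd.zpow_left t).eq, ← mul_assoc, ← zpow_add_one,
        hdpz _ (by rwa [mul_comm u t]), one_mul, map_zpow, hXc]
    have e3 : Y (X (Y c)) = d ^ u := by
      rw [hYc, map_mul X, map_zpow X, hXc, hXd, ((hcd.zpow_left t)).mul_zpow, ← zpow_mul,
        mul_assoc, ← (hcd.zpow_right u).eq, ← mul_assoc, ← zpow_add_one, hcpz _ hij, one_mul,
        map_zpow, hYd]
    have e4 : Y (X (Y d)) = c ^ t := by
      rw [hYd, hXd, map_mul, map_zpow, hYd, hYc, ((hcd.symm.zpow_left u)).mul_zpow, ← zpow_mul,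
        mul_assoc, (hcd.zpow_left t).eq, ← mul_assoc, ← zpow_add_one,
        hdpz _ (by rwa [mul_comm u t]), one_mul]
    set k := (a ^ i * a' ^ j * a ^ i)⁻¹ * (a' ^ j * a ^ i * a' ^ j) with hk
    have hfix : ∀ x, Y (X (Y x)) = X (Y (X x)) → x * k = k * x := by
      intro x hx
      have h1 : MulAut.conj k x = x := by
        have eA : MulAut.conj (a ^ i * a' ^ j * a ^ i) x = X (Y (X x)) := by
          rw [map_mul, map_mul, MulAut.mul_apply, MulAut.mul_apply]
        have eB : MulAut.conj (a' ^ j * a ^ i * a' ^ j) x = Y (X (Y x)) := by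
          rw [map_mul, map_mul, MulAut.mul_apply, MulAut.mul_apply]
        rw [hk, map_mul, map_inv, MulAut.mul_apply, eB, hx, ← eA, MulAut.inv_apply_self]
      rw [MulAut.conj_apply] at h1
      exact (mul_inv_eq_iff_eq_mul.mp h1).symm
    have hkV : k ∈ V := by
      refine hCV (mem_centralizer_iff.mpr ?_)
      have hS : V ≤ centralizer {k} := by
        have hle : V ⊓ centralizer {k} = V := by
          refine eq_of_le_of_card_ge inf_le_left ?_
          have hc' : c ∈ V ⊓ centralizer {k} :=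
            mem_inf.mpr ⟨hZV hcZ, mem_centralizer_singleton_iff.mpr (hfix c (e3.trans e1.symm))⟩
          have hd' : d ∈ V ⊓ centralizer {k} :=
            mem_inf.mpr ⟨hdV, mem_centralizer_singleton_iff.mpr (hfix d (e4.trans e2.symm))⟩
          obtain ⟨n, hn, hn'⟩ := (Nat.dvd_prime_pow hp.out).mp
            (hcardV ▸ card_dvd_of_le (inf_le_left : V ⊓ centralizer {k} ≤ V))
          rw [hcardV, hn']
          refine Nat.pow_le_pow_right hp.out.pos ?_
          by_contra hlt
          have hZle : Z ≤ V ⊓ centralizer {k} := hZc ▸ zpowers_le.mpr hc'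
          refine hdZ ((eq_of_le_of_card_ge hZle ?_).symm ▸ hd')
          rw [hn', hcardZ]
          calc p ^ n ≤ p ^ 1 := Nat.pow_le_pow_right hp.out.pos (by omega)
            _ = p := pow_one p
        exact inf_eq_left.mp hle
      intro v hv
      exact mem_centralizer_singleton_iff.mp (hS hv)
    -- modulo `D` the elements `a` and `a'` agree
    set π := (QuotientGroup.mk' D).comp f with hπ
    have hπg : π g = 1 := (QuotientGroup.eq_one_iff _).mpr hgD
    have hπk : π k = 1 := by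
      rw [hπ, MonoidHom.comp_apply, show f k = 1 from (QuotientGroup.eq_one_iff k).mpr hkV,
        map_one]
    have hπa : π a' = π a := by simp [ha'def, hπg]
    have hχ : π a ^ (j - i) = 1 := by
      rw [← hπk, hk]
      simp only [map_mul, map_inv, map_zpow, hπa]
      group
    have hord : orderOf (π a) = p := by
      refine orderOf_eq_prime ?_ fun h => ?_
      · rw [← map_pow, hπ, MonoidHom.comp_apply,
          show f (a ^ p) = 1 from (QuotientGroup.eq_one_iff _).mpr (hZV (hpP a ha)), map_one]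
      · have h1 : f a ∈ D := (QuotientGroup.eq_one_iff _).mp h
        have h2 : orderOf (f a) ∣ Nat.card D := by
          simpa [Subgroup.orderOf_mk] using orderOf_dvd_natCard (⟨f a, h1⟩ : D)
        rw [hfa] at h2
        exact PSolvable.pPrimeCore_not_dvd h2
    rw [← orderOf_dvd_iff_zpow_eq_one, hord, ← ZMod.intCast_eq_intCast_iff_dvd_sub] at hχ
    exact hχ
  obtain ⟨j₁, hj₁⟩ := ZMod.intCast_surjective (-((A : ZMod p) * C)⁻¹)
  obtain ⟨j₂, hj₂⟩ := ZMod.intCast_surjective ((2 : ZMod p)⁻¹)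
  have hAC : (A : ZMod p) * C ≠ 0 := mul_ne_zero hAne hCne
  have h1 := hbraid 1 j₁ (by push_cast; rw [hj₁]; field_simp; ring)
  rw [hj₁, Int.cast_one] at h1
  have hAC1 : (A : ZMod p) * C = -1 := by
    have := congrArg (fun x => -x) h1
    simp only [neg_neg] at this
    rw [← inv_inj, ← this, inv_neg, inv_one]
  have h2ne : (2 : ZMod p) ≠ 0 := by
    have h : ((2 : ℕ) : ZMod p) ≠ 0 := by
      rw [Ne, ZMod.natCast_eq_zero_iff]
      intro h
      have := Nat.le_of_dvd (by norm_num) h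
      omega
    exact_mod_cast h
  have h2 := hbraid 2 j₂ (by
    push_cast
    rw [hj₂, show (2 : ZMod p) * A * (2⁻¹ * C) = (2 * 2⁻¹) * (A * C) by ring,
      mul_inv_cancel₀ h2ne, one_mul, hAC1, neg_add_cancel])
  rw [hj₂, Int.cast_ofNat] at h2
  have h4 : ((4 : ℕ) : ZMod p) = ((1 : ℕ) : ZMod p) := by
    push_cast
    calc (4 : ZMod p) = 2 * 2 := by norm_num
      _ = 2 * 2⁻¹ := by rw [← h2]
      _ = 1 := mul_inv_cancel₀ h2ne
  rw [ZMod.natCast_eq_natCast_iff] at h4
  have h5 := (Nat.modEq_iff_dvd' (by norm_num)).mp h4.symm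
  have h6 := Nat.le_of_dvd (by norm_num) h5
  omega

theorem pLengthLE_one_of_hasSchmidtAut {G : Type u} [Group G] [Finite G] {p : ℕ} [Fact p.Prime]
    (hG : IsPSolvable p G) (P : Sylow p G) (hS : HasSchmidtAut (P : Subgroup G)) :
    PLengthLE p 1 G := by
  by_cases hna : ∃ a b : (P : Subgroup G), a * b ≠ b * a
  · set f := QuotientGroup.mk' (pPrimeCore p G) with hf
    have hfs : Function.Surjective f := QuotientGroup.mk'_surjective _
    set T := P.mapSurjective hfs with hT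
    have hinj : Function.Injective (f.subgroupMap (P : Subgroup G)) := by
      rw [← MonoidHom.ker_eq_bot_iff, eq_bot_iff]
      intro x hx
      have h1 : (x : G) ∈ (P : Subgroup G) ⊓ pPrimeCore p G :=
        ⟨x.2, (QuotientGroup.eq_one_iff _).mp (congrArg Subtype.val hx)⟩
      rw [PSolvable.inf_eq_bot_of_isPGroup_of_coprime P.isPGroup'
        PSolvable.pPrimeCore_coprime, mem_bot] at h1
      exact mem_bot.mpr (Subtype.ext h1)
    let e : (P : Subgroup G) ≃* (T : Subgroup (G ⧸ pPrimeCore p G)) :=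
      MulEquiv.ofBijective (f.subgroupMap (P : Subgroup G))
        ⟨hinj, MonoidHom.subgroupMap_surjective _ _⟩
    have hT' : (T : Subgroup (G ⧸ pPrimeCore p G)) ≤ pCore p (G ⧸ pPrimeCore p G) := by
      refine le_pCore_of_hasSchmidtAut (PSolvable.isPSolvable_quotient hG _)
        PSolvable.pPrimeCore_quotient_eq_bot T ?_ (hS.of_equiv e)
      obtain ⟨a, b, hab⟩ := hna
      exact ⟨e a, e b, fun h => hab (e.injective (by rw [map_mul, map_mul, h]))⟩
    rw [OddMax.Sec10.pLengthLE_one_iff]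
    unfold pPrimePCore
    rw [index_comap_of_surjective _ hfs]
    exact (((Fact.out : p.Prime).coprime_iff_not_dvd.mpr T.not_dvd_index).symm).coprime_dvd_left
      (index_dvd_of_le hT')
  · push Not at hna
    haveI : Group.IsNilpotent (P : Subgroup G) := P.isPGroup'.isNilpotent
    exact PSolvable.pLengthLE_of_nilpotencyClass_le 1 hG P
      (Group.IsNilpotent.nilpotencyClass_le_one_iff.mpr ⟨⟨hna⟩⟩)

end Cfsg.Agent.Lib.MinNNSylow
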